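import Cfsg.Agent.Lib.H26.QuadSL
import Cfsg.Agent.Lib.H03.PSolv
import Cfsg.Agent.Lib.H11.PSL2
import Mathlib

/-! Quadratic pairs: the prime `3`. -/

set_option autoImplicit false
set_option linter.style.haveILetI false
set_option linter.unusedVariables false
set_option linter.unusedSectionVars false

namespace Cfsg.Agent.H26.QuadSL

open Cfsg Matrix MatrixGroups

/-- `p`-solvability passes to subgroups. -/
theorem isPSolvable_subgroup {G : Type*} [Group G] [Finite G] {p : ℕ} [Fact p.Prime]
    (h : IsPSolvable p G) (K : Subgroup G) : IsPSolvable p K := by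
  obtain ⟨n, H, h0, hn, hmono, hnorm, hfac⟩ := h
  refine ⟨n, fun i => (H i).subgroupOf K, ?_, ?_, ?_, ?_, ?_⟩
  · simp [h0]
  · simp [hn]
  · intro i j hij
    exact fun x hx => hmono hij hx
  · intro i
    haveI := hnorm i
    infer_instance
  · intro i
    have hle : H i.castSucc ≤ H i.succ := hmono (Fin.castSucc_lt_succ).le
    have hd : ((H i.castSucc).subgroupOf K).relIndex ((H i.succ).subgroupOf K) ∣
        (H i.castSucc).relIndex (H i.succ) := by
      have e1 : ((H i.castSucc).subgroupOf K).relIndex ((H i.succ).subgroupOf K) =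
          (H i.castSucc).relIndex (H i.succ ⊓ K) := by
        have e0 : ((H i.castSucc).subgroupOf K).relIndex ((H i.succ).subgroupOf K) =
            (H i.castSucc).relIndex (((H i.succ).subgroupOf K).map K.subtype) :=
          Subgroup.relIndex_comap _ _ _
        rw [e0, Subgroup.subgroupOf_map_subtype]
      rw [e1]
      haveI := hnorm i.castSucc
      have e2 : (H i.castSucc).relIndex (H i.succ ⊓ K) = (H i.castSucc).relIndex ((H i.succ ⊓ K) ⊔ H i.castSucc) :=
        (Subgroup.relIndex_sup_right _ _).symm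
      rw [e2]
      exact ⟨_, (Subgroup.relIndex_mul_relIndex _ _ _ le_sup_right (sup_le inf_le_left hle)).symm⟩
    rcases hfac i with ⟨m, hm⟩ | hc
    · left
      rw [hm] at hd
      obtain ⟨l, _, hl⟩ := (Nat.dvd_prime_pow (Fact.out : p.Prime)).mp hd
      exact ⟨l, hl⟩
    · right
      exact Nat.Coprime.coprime_dvd_left hd hc

/-- `SL₂(p)` is not `p`-solvable when `p ≥ 5`. -/
theorem not_isPSolvable_SL2 {p : ℕ} [hp : Fact p.Prime] (hp2 : p ≠ 2) (hp3 : p ≠ 3) :
    ¬ IsPSolvable p (SL(2, ZMod p)) := by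
  classical
  intro hs
  haveI : NeZero p := ⟨hp.out.ne_zero⟩
  have hp5 : 5 ≤ p := by
    have h1 := hp.out.two_le
    have h4 : p ≠ 4 := by
      rintro rfl
      revert hp
      intro hp
      exact absurd hp.out (by norm_num)
    omega
  have hcard : ¬ (2 = 2 ∧ Fintype.card (ZMod p) ≤ 3) := by
    rintro ⟨_, h⟩
    rw [ZMod.card] at h
    omega
  haveI hsimple : IsSimpleGroup (ProjectiveSpecialLinearGroup (Fin 2) (ZMod p)) :=
    Cfsg.Agent.H11.PSL_simple' 2 le_rfl hcard
  have hperf : commutator (SL(2, ZMod p)) = ⊤ := Cfsg.Agent.H11.commutator_SL_eq_top' 2 le_rfl hcard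
  let π : SL(2, ZMod p) →* ProjectiveSpecialLinearGroup (Fin 2) (ZMod p) :=
    QuotientGroup.mk' _
  have hπ : Function.Surjective π := QuotientGroup.mk'_surjective _
  have hsQ : IsPSolvable p (ProjectiveSpecialLinearGroup (Fin 2) (ZMod p)) :=
    Cfsg.Agent.H03.isPSolvable_of_surjective hπ hs
  haveI : Finite (ProjectiveSpecialLinearGroup (Fin 2) (ZMod p)) :=
    Finite.of_surjective π hπ
  obtain ⟨M, -, hMn, hM1, hM⟩ := Cfsg.Agent.H03.exists_normal_le_of_isPSolvable hsQ
    (R := ⊤) inferInstance top_ne_bot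
  have hMtop : M = ⊤ := (hsimple.eq_bot_or_eq_top_of_normal M hMn).resolve_left hM1
  subst hMtop
  -- the element of order `p`
  let u : SL(2, ZMod p) := Cfsg.Agent.Lead.DicksonSL.xE (1 : ZMod p)
  let v : SL(2, ZMod p) := Cfsg.Agent.Lead.DicksonSL.yE (1 : ZMod p)
  have hup : u ^ p = 1 := by
    apply Cfsg.Agent.H14.pow_char_of_trc
    show (1 : ZMod p) + 1 = 2
    norm_num
  have hu1 : π u ≠ 1 := by
    intro h
    have h1 : u ∈ Subgroup.center (SL(2, ZMod p)) := (QuotientGroup.eq_one_iff u).1 h
    have h2 := Subgroup.mem_center_iff.1 h1 v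
    have h3 := congrArg Cfsg.Agent.H14.e00 h2
    simp only [Cfsg.Agent.H14.e00_mul] at h3
    have h4 : Cfsg.Agent.H14.e00 v * Cfsg.Agent.H14.e00 u + Cfsg.Agent.H14.e01 v * Cfsg.Agent.H14.e10 u =
        Cfsg.Agent.H14.e00 u * Cfsg.Agent.H14.e00 v + Cfsg.Agent.H14.e01 u * Cfsg.Agent.H14.e10 v := h3
    have e1 : Cfsg.Agent.H14.e00 u = 1 := rfl
    have e2 : Cfsg.Agent.H14.e01 u = 1 := rfl
    have e3 : Cfsg.Agent.H14.e10 u = 0 := rfl
    have e4 : Cfsg.Agent.H14.e00 v = 1 := rfl
    have e5 : Cfsg.Agent.H14.e01 v = 0 := rfl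
    have e6 : Cfsg.Agent.H14.e10 v = 1 := rfl
    rw [e1, e2, e3, e4, e5, e6] at h4
    simp at h4
  rcases hM with hM | hM
  · -- a `p`-group
    have hpg : IsPGroup p (ProjectiveSpecialLinearGroup (Fin 2) (ZMod p)) :=
      hM.of_equiv Subgroup.topEquiv
    haveI : Nontrivial (ProjectiveSpecialLinearGroup (Fin 2) (ZMod p)) := inferInstance
    have hZ := hpg.center_nontrivial
    have hZt : Subgroup.center (ProjectiveSpecialLinearGroup (Fin 2) (ZMod p)) = ⊤ :=
      (hsimple.eq_bot_or_eq_top_of_normal _ inferInstance).resolve_left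
        (fun h => by
          rw [h] at hZ
          exact not_nontrivial_iff_subsingleton.2 inferInstance hZ)
    have hcomm : ∀ a b : ProjectiveSpecialLinearGroup (Fin 2) (ZMod p), a * b = b * a := by
      intro a b
      have : a ∈ Subgroup.center _ := by rw [hZt]; trivial
      exact (Subgroup.mem_center_iff.1 this b).symm
    -- perfect
    have hu : u ∈ commutator (SL(2, ZMod p)) := by rw [hperf]; trivial
    have hker : commutator (SL(2, ZMod p)) ≤ π.ker := by
      rw [commutator_def, Subgroup.commutator_le]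
      intro a _ b _
      rw [MonoidHom.mem_ker, commutatorElement_def, map_mul, map_mul, map_mul, map_inv, map_inv,
        hcomm (π a) (π b)]
      group
    exact hu1 (hker hu)
  · -- coprime to `p`
    have hc : (Nat.card (ProjectiveSpecialLinearGroup (Fin 2) (ZMod p))).Coprime p := by
      rwa [Nat.card_congr Subgroup.topEquiv.toEquiv] at hM
    have ho : orderOf (π u) = p := by
      apply orderOf_eq_prime
      · rw [← map_pow, hup, map_one]
      · exact hu1
    have hd := orderOf_dvd_natCard (π u)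
    rw [ho] at hd
    have := Nat.Coprime.eq_one_of_dvd hc.symm hd
    exact hp.out.one_lt.ne' this

/-- A section of a `p`-solvable group isomorphic to `SL₂(p)`, `p` odd, forces `p = 3`. -/
theorem eq_three_of_section {G : Type*} [Group G] [Finite G] {p : ℕ} [hp : Fact p.Prime] (hp2 : p ≠ 2)
    (H K L : Subgroup G) (hsep : IsPSolvable p H) (hL : (L.subgroupOf K).Normal) (hKH : K ≤ H)
    (e : (K ⧸ L.subgroupOf K) ≃* SL(2, ZMod p)) : p = 3 := by
  by_contra hp3
  apply not_isPSolvable_SL2 hp2 hp3
  have h1 : IsPSolvable p (K.subgroupOf H) := isPSolvable_subgroup hsep _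
  let f : K.subgroupOf H →* SL(2, ZMod p) :=
    e.toMonoidHom.comp ((QuotientGroup.mk' (L.subgroupOf K)).comp
      (Subgroup.subgroupOfEquivOfLe hKH).toMonoidHom)
  have hf : Function.Surjective f := by
    apply e.surjective.comp
    apply (QuotientGroup.mk'_surjective _).comp
    exact (Subgroup.subgroupOfEquivOfLe hKH).surjective
  exact Cfsg.Agent.H03.isPSolvable_of_surjective hf h1

end Cfsg.Agent.H26.QuadSL
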