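import Mathlib
import Cfsg.Agent.Lib.H14.QdStable
import Cfsg.Agent.Lib.H14.QdSL2
import Cfsg.Agent.Lib.H14.ZJ
import Cfsg.Agent.Lib.H26.QuadSL2
import Cfsg.Agent.S3836
import Cfsg.Agent.Lib.H09.Sect
import Cfsg.Agent.Lib.H02.Quad6
import Cfsg.Agent.Lib.Lead.DicksonSL

/-! Stability in the action sense, and in the Prelude's form, for groups without `SL₂(p)`
sections. -/

set_option autoImplicit false
set_option linter.style.haveILetI false
set_option linter.unusedVariables false
set_option linter.unusedSectionVars false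

namespace Cfsg.Agent.H26

open Cfsg Cfsg.Agent.H14 Matrix MatrixGroups

open scoped commutatorElement

section Conv

variable {G : Type*} [Group G] [Finite G] {p : ℕ} [Fact p.Prime]

/-- Stability in the normalizer form gives stability on normal `p`-subgroups. -/
theorem isPStableOn_of_nstable (hst : IsNormalizerPStable p G) (V : Subgroup G) [hV : V.Normal]
    (hVp : IsPGroup p V) : IsPStableOn p V := by
  classical
  intro a ha
  obtain ⟨T, hTn, hCT, ⟨m, hm⟩, hT⟩ := stable_data hst hVp hV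
  haveI hCn : (Subgroup.centralizer (V : Set G)).Normal := Subgroup.normal_centralizer
  set C := Subgroup.centralizer (V : Set G) with hC
  let π := QuotientGroup.mk' C
  have hTn' : (T.map π).Normal := hTn.map π (QuotientGroup.mk'_surjective C)
  have hTp : IsPGroup p (T.map π) := by
    rintro ⟨_, t, ht, rfl⟩
    refine ⟨m, Subtype.ext ?_⟩
    have h1 := Subgroup.pow_index_mem (C.subgroupOf T) (⟨t, ht⟩ : T)
    have h2 : (C.subgroupOf T).index = p ^ m := hm
    rw [h2, Subgroup.mem_subgroupOf] at h1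
    have h3 : t ^ p ^ m ∈ C := by simpa using h1
    change π t ^ p ^ m = 1
    rw [← map_pow]
    exact (QuotientGroup.eq_one_iff _).mpr h3
  exact Cfsg.Agent.H01.le_pCore hTn' hTp ⟨a, hT a ha, rfl⟩

/-- Stability of a quotient gives stability on a section. -/
theorem isPStableOnSection_of_nstable (K N : Subgroup G) [hK : K.Normal] [hN : N.Normal]
    (hKp : IsPGroup p K) (hst : IsNormalizerPStable p (G ⧸ N)) : IsPStableOnSection p K N := by
  classical
  intro a ha
  let π := QuotientGroup.mk' N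
  have hπs : Function.Surjective π := QuotientGroup.mk'_surjective N
  obtain ⟨T, hTn, hCT, ⟨m, hm⟩, hT⟩ := stable_data hst (hKp.map π) (hK.map π hπs)
  refine ⟨T.comap π, hTn.comap π, Subgroup.comap_mono hCT, ⟨m, ?_⟩, hT (π a) ?_⟩
  · change ((Subgroup.centralizer ((K.map π : Subgroup (G ⧸ N)) : Set (G ⧸ N))).comap π).relIndex
      (T.comap π) = p ^ m
    rw [Subgroup.relIndex_comap, Subgroup.map_comap_eq_self_of_surjective hπs]
    exact hm
  · rw [← MonoidHom.map_zpowers, ← Subgroup.map_commutator, ← Subgroup.map_commutator, eq_bot_iff,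
      Subgroup.map_le_iff_le_comap]
    refine ha.trans ?_
    intro x hx
    rw [Subgroup.mem_comap, Subgroup.mem_bot]
    exact (QuotientGroup.eq_one_iff x).mpr hx

/-- The normalizer form gives the Prelude's form of stability. -/
theorem isPStable_of_nstable (hodd : Odd p) (hne : pCore p G ≠ ⊥) (hst : IsNormalizerPStable p G) :
    IsPStable p G := by
  refine ⟨hodd, hne, ?_⟩
  rintro A P₀ hA hP₀ hAP₀ - - hq _ ⟨⟨a, haN⟩, ha, rfl⟩
  have haA : a ∈ A := Subgroup.mem_subgroupOf.mp ha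
  have hle : Subgroup.zpowers a ≤ A := Subgroup.zpowers_le.mpr haA
  have hq' : ⁅⁅P₀, Subgroup.zpowers a⁆, Subgroup.zpowers a⁆ = ⊥ := by
    rw [eq_bot_iff, ← hq]
    exact Subgroup.commutator_mono (Subgroup.commutator_mono le_rfl hle) hle
  exact hst P₀ hP₀ a haN hq'

end Conv

section Free

variable {G : Type*} [Group G] [Finite G] {p : ℕ} [Fact p.Prime]

lemma not_involves_qd_of_sl2 (h : ¬ Involves (SL(2, ZMod p)) G) :
    ¬ Involves ↥(Cfsg.qdOver (ZMod p)) G := by
  intro hq
  obtain ⟨P, _, _, hi⟩ := involves_sl2_of_involves_qd (F := ZMod p) (p := p) hq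
  exact h (H09.Involves.trans' hi (H09.involves_subgroup _))

lemma not_involves_of_quotient (N : Subgroup G) [N.Normal] {J : Type*} [Group J]
    (h : ¬ Involves J G) : ¬ Involves J (G ⧸ N) :=
  fun hq => h (H09.Involves.trans' hq (H09.involves_quotient N))

lemma not_involves_of_subgroup (N : Subgroup G) {J : Type*} [Group J]
    (h : ¬ Involves J G) : ¬ Involves J N :=
  fun hq => h (H09.Involves.trans' hq (H09.involves_subgroup N))

/-- No `SL₂(p)` section: `p`-stable in the action sense. -/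
theorem isActionPStable_of_not_involves (hp2 : p ≠ 2) (h : ¬ Involves (SL(2, ZMod p)) G) :
    IsActionPStable p G := by
  have hG : IsNormalizerPStable p G := stable_of_not_involves hp2 (not_involves_qd_of_sl2 h)
  refine ⟨?_, ?_, ?_⟩
  · intro V hVn hV
    refine isPStableOn_of_nstable hG V ?_
    rintro ⟨v, hv⟩
    exact ⟨1, Subtype.ext (by simpa using hV.2 v hv)⟩
  · exact isPStableOnSection_of_nstable _ _ (Cfsg.Agent.H01.pCore_isPGroup p)
      (stable_of_not_involves hp2 (not_involves_qd_of_sl2 (not_involves_of_quotient _ h)))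
  · intro S V hVn hV
    have hM := stable_of_not_involves hp2 (not_involves_qd_of_sl2 (not_involves_of_subgroup
      (Subgroup.normalizer (thompsonSubgroupOf p (S : Subgroup G) : Set G)) h))
    refine isPStableOn_of_nstable hM V ?_
    rintro ⟨v, hv⟩
    have h1 : (v : G) ∈ (S : Subgroup G) := by
      obtain ⟨s, -, hs⟩ := hV ⟨v, hv, rfl⟩
      have e : (v : G) = s := hs.symm
      rw [e]
      exact s.2
    obtain ⟨k, hk⟩ := S.isPGroup' ⟨_, h1⟩
    refine ⟨k, Subtype.ext (Subtype.ext ?_)⟩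
    have e2 : (v : G) ^ p ^ k = 1 := congrArg Subtype.val hk
    simpa using e2

/-- Abelian Sylow `2`-subgroups exclude `SL₂(p)` sections. -/
theorem not_involves_sl2_of_abelian (hp2 : p ≠ 2)
    (hab : ∀ T : Sylow 2 G, IsMulCommutative T) : ¬ Involves (SL(2, ZMod p)) G := by
  classical
  intro hi
  obtain ⟨K, θ, hθ⟩ := H09.exists_of_involves hi
  obtain ⟨T₀⟩ : Nonempty (Sylow 2 K) := inferInstance
  have hT₀ : IsMulCommutative (T₀ : Subgroup K) := by
    let W : Subgroup G := (T₀ : Subgroup K).map K.subtype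
    have hW : IsPGroup 2 W := T₀.2.map _
    obtain ⟨T, hT⟩ := hW.exists_le_sylow
    have hTc := hab T
    refine ⟨⟨?_⟩⟩
    rintro ⟨x, hx⟩ ⟨y, hy⟩
    have h1 : (x : G) ∈ (T : Subgroup G) := hT ⟨x, hx, rfl⟩
    have h2 : (y : G) ∈ (T : Subgroup G) := hT ⟨y, hy, rfl⟩
    have h3 := hTc.is_comm.comm ⟨_, h1⟩ ⟨_, h2⟩
    have h4 : (x : G) * y = y * x := congrArg Subtype.val h3
    exact Subtype.ext (Subtype.ext h4)
  haveI : Fact (Nat.Prime 2) := ⟨Nat.prime_two⟩
  haveI : Finite (SL(2, ZMod p)) := Finite.of_surjective θ hθ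
  let T₁ : Sylow 2 (SL(2, ZMod p)) := T₀.mapSurjective hθ
  have hT₁ : IsMulCommutative (T₁ : Subgroup (SL(2, ZMod p))) := by
    refine ⟨⟨?_⟩⟩
    rintro ⟨x, y, hy, rfl⟩ ⟨z, w, hw, rfl⟩
    apply Subtype.ext
    show θ y * θ w = θ w * θ y
    rw [← map_mul, ← map_mul]
    have := hT₀.is_comm.comm ⟨y, hy⟩ ⟨w, hw⟩
    rw [show y * w = w * y from congrArg Subtype.val this]
  -- `SL₂(p)` is generated by elements of order `p`
  have hgen := Cfsg.Agent.Lead.DicksonSL.closure_xy p (1 : ZMod p) one_ne_zero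
  have hpw : ∀ x ∈ ({Cfsg.Agent.Lead.DicksonSL.xE (1 : ZMod p), Cfsg.Agent.Lead.DicksonSL.yE (1 : ZMod p)} :
      Set (SL(2, ZMod p))), x ^ p = 1 := by
    rintro x (rfl | rfl)
    · rw [Cfsg.Agent.Lead.DicksonSL.xE_pow, ZMod.natCast_self, zero_mul, Cfsg.Agent.Lead.DicksonSL.xE_zero]
    · rw [Cfsg.Agent.Lead.DicksonSL.yE_pow, ZMod.natCast_self, zero_mul, Cfsg.Agent.Lead.DicksonSL.yE_zero]
  have hrange := Cfsg.Agent.H02.range_isPGroup_of_abelian_sylow (p := p) hp2
    (MonoidHom.id (SL(2, ZMod p))) _ hgen hpw T₁ hT₁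
  let n₁ : SL(2, ZMod p) := ⟨!![-1, 0; 0, -1], by simp [Matrix.det_fin_two]⟩
  have hn₁ : n₁ ^ 2 = 1 := by
    rw [pow_two]
    apply Subtype.ext
    change (!![-1, 0; 0, -1] : Matrix (Fin 2) (Fin 2) (ZMod p)) * !![-1, 0; 0, -1] = 1
    ext i j
    fin_cases i <;> fin_cases j <;> simp [Matrix.mul_apply, Fin.sum_univ_two]
  have hn₂ : n₁ ≠ 1 := by
    intro h
    have h1 := congrArg (fun M : SL(2, ZMod p) => (M : Matrix (Fin 2) (Fin 2) (ZMod p)) 0 0) h
    simp only [n₁] at h1
    have h2 : (-1 : ZMod p) = 1 := by simpa using h1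
    haveI : Fact p.Prime := inferInstance
    have h3 : (2 : ZMod p) = 0 := by
      have : (1 : ZMod p) + 1 = 0 := by
        nth_rewrite 1 [← h2]
        ring
      rw [← this]
      norm_num
    have h4 : ((2 : ℕ) : ZMod p) = 0 := by exact_mod_cast h3
    rw [ZMod.natCast_eq_zero_iff] at h4
    exact hp2 ((Nat.prime_dvd_prime_iff_eq (Fact.out) Nat.prime_two).mp h4)
  obtain ⟨k, hk⟩ := hrange ⟨n₁, n₁, rfl⟩
  have h1 : n₁ ^ p ^ k = 1 := congrArg Subtype.val hk
  have h2 : orderOf n₁ = 2 := orderOf_eq_prime hn₁ hn₂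
  have h3 : 2 ∣ p ^ k := h2 ▸ orderOf_dvd_of_pow_eq_one h1
  have h4 : 2 ∣ p := Nat.prime_two.dvd_of_dvd_pow h3
  exact hp2 ((Nat.prime_dvd_prime_iff_eq Nat.prime_two Fact.out).mp h4).symm

end Free

end Cfsg.Agent.H26
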