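import Mathlib
import Cfsg.Agent.Lib.H26.FPF
import Cfsg.Agent.Lib.H13.CoprimeGen
import Cfsg.Agent.Lib.H13.CharP2

/-! Kegel's theorem: a finite group with a splitting automorphism of prime order is nilpotent. -/

set_option autoImplicit false
set_option linter.style.haveILetI false
set_option linter.unusedVariables false
set_option linter.unusedSectionVars false

namespace Cfsg.Agent.H26.Kegel

open Cfsg Cfsg.Agent.H13 Cfsg.Agent.H14 ZJFam Cfsg.Agent.H26 Cfsg.Agent.H26.FPF

universe u

section Basics

variable {G : Type*} [Group G]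

/-- The norm of `x` under `f`. -/
def Nm (f : G →* G) (n : ℕ) (x : G) : G := ((List.range n).map (fun k => f^[k] x)).prod

lemma Nm_zero (f : G →* G) (x : G) : Nm f 0 x = 1 := rfl

lemma Nm_succ (f : G →* G) (n : ℕ) (x : G) : Nm f (n + 1) x = x * f (Nm f n x) := by
  unfold Nm
  rw [List.range_succ_eq_map, List.map_cons, List.prod_cons, map_list_prod, List.map_map,
    List.map_map]
  congr 2
  refine List.map_congr_left (fun k _ => ?_)
  simp only [Function.comp_apply, Function.iterate_succ_apply']

lemma Nm_fixed (f : G →* G) {x : G} (hx : f x = x) (n : ℕ) : Nm f n x = x ^ n := by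
  induction n with
  | zero => rw [Nm_zero, pow_zero]
  | succ n ih => rw [Nm_succ, ih, map_pow, hx, pow_succ']

/-- `f` is a splitting map for the integer `p`. -/
def Split (p : ℕ) (f : G →* G) : Prop := f^[p] = id ∧ ∀ x, Nm f p x = 1

lemma Split.pow_eq_one {p : ℕ} {f : G →* G} (hs : Split p f) {x : G} (hx : f x = x) : x ^ p = 1 := by
  rw [← Nm_fixed f hx]
  exact hs.2 x

lemma Split.bijective {p : ℕ} (hp : p ≠ 0) {f : G →* G} (hs : Split p f) : Function.Bijective f :=
  bijective_of_iterate f hp hs.1

section E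

variable {E : Type*} [Group E]

lemma conj_iter (ι : G →* E) (γ : E) (β : G →* G) (hγ : ∀ x, γ * ι x * γ⁻¹ = ι (β x)) (n : ℕ) (x : G) :
    γ ^ n * ι x * (γ ^ n)⁻¹ = ι (β^[n] x) := by
  induction n generalizing x with
  | zero => simp
  | succ n ih =>
    rw [Function.iterate_succ_apply, ← ih, ← hγ, pow_succ]
    group

lemma prod_formula (ι : G →* E) (γ : E) (β : G →* G) (hγ : ∀ x, γ * ι x * γ⁻¹ = ι (β x)) (n : ℕ) (x : G) :
    (ι x * γ) ^ n = ι (Nm β n x) * γ ^ n := by
  induction n with
  | zero => simp [Nm_zero]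
  | succ n ih =>
    rw [pow_succ', ih, Nm_succ, map_mul, ← hγ, pow_succ']
    group

end E

/-- The twist of `f` by the inner automorphism of `g`. -/
def twist (f : G →* G) (g : G) : G →* G := (MulAut.conj g).toMonoidHom.comp f

lemma twist_apply (f : G →* G) (g x : G) : twist f g x = g * f x * g⁻¹ := rfl

/-- Twisting preserves the splitting condition. -/
lemma Split.twist {p : ℕ} (hp : p ≠ 0) {f : G →* G} (hs : Split p f) (g : G) :
    Split p (twist f g) := by
  classical
  have hb := hs.bijective hp
  let φ : MulAut G := MulEquiv.ofBijective f hb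
  have hφ : ∀ x, φ x = f x := fun _ => rfl
  have hφpow : ∀ (n : ℕ) (x : G), (φ ^ n) x = f^[n] x := by
    intro n
    induction n with
    | zero => intro x; rfl
    | succ n ih =>
      intro x
      rw [pow_succ', MulAut.mul_apply, ih, hφ, Function.iterate_succ_apply']
  let E := SemidirectProduct G (MulAut G) (MonoidHom.id _)
  let ι : G →* E := SemidirectProduct.inl
  have hι : Function.Injective ι := SemidirectProduct.inl_injective
  let t : E := SemidirectProduct.inr φ
  have htpow : ∀ n : ℕ, t ^ n = SemidirectProduct.inr (φ ^ n) := fun n => (map_pow _ _ _).symm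
  have htr : t ^ p = 1 := by
    rw [htpow]
    have : φ ^ p = 1 := by
      ext x
      rw [hφpow, hs.1]
      rfl
    rw [this, map_one]
  have hconj1 : ∀ x : G, t * ι x * t⁻¹ = ι (f x) := by
    intro x
    change SemidirectProduct.inr φ * _ * (SemidirectProduct.inr φ)⁻¹ = _
    rw [← map_inv]
    exact (SemidirectProduct.inl_aut (φ := MonoidHom.id (MulAut G)) φ x).symm
  have hnorm : ∀ x : G, (ι x * t) ^ p = 1 := by
    intro x
    rw [prod_formula ι t f hconj1, hs.2 x, map_one, one_mul, htr]
  let γ : E := ι g * t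
  have hγ : ∀ x, γ * ι x * γ⁻¹ = ι (Cfsg.Agent.H26.Kegel.twist f g x) := by
    intro x
    have e : γ * ι x * γ⁻¹ = ι g * (t * ι x * t⁻¹) * (ι g)⁻¹ := by
      simp only [γ, mul_inv_rev, mul_assoc]
    rw [e, hconj1, twist_apply, map_mul, map_mul, map_inv]
  have hγp : γ ^ p = 1 := hnorm g
  constructor
  · funext x
    apply hι
    rw [← conj_iter ι γ _ hγ, hγp]
    simp
  · intro x
    apply hι
    have h1 := prod_formula ι γ _ hγ p x
    rw [hγp, mul_one] at h1
    rw [← h1, map_one]
    have e : ι x * γ = ι (x * g) * t := by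
      simp only [γ, map_mul, mul_assoc]
    rw [e, hnorm]

lemma Nm_res (f : G →* G) (H : Subgroup G) (h : ∀ x ∈ H, f x ∈ H) (n : ℕ) (x : H) :
    ((Nm (resH f H h) n x : H) : G) = Nm f n x := by
  induction n with
  | zero => rfl
  | succ n ih =>
    rw [Nm_succ, Nm_succ, Subgroup.coe_mul, resH_coe, ih]

lemma Split.res {p : ℕ} {f : G →* G} (hs : Split p f) (H : Subgroup G) (h : ∀ x ∈ H, f x ∈ H) :
    Split p (resH f H h) := by
  refine ⟨resH_hit f hs.1 H h, fun x => ?_⟩
  apply Subtype.ext
  rw [Nm_res, hs.2]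
  rfl

lemma Nm_quot (f : G →* G) (N : Subgroup G) [N.Normal] (h : ∀ x ∈ N, f x ∈ N) (n : ℕ) (x : G) :
    Nm (quotH f N h) n (x : G ⧸ N) = ((Nm f n x : G) : G ⧸ N) := by
  induction n with
  | zero => rfl
  | succ n ih =>
    rw [Nm_succ, Nm_succ, ih, quotH_mk, QuotientGroup.mk_mul]

lemma Split.quot {p : ℕ} {f : G →* G} (hs : Split p f) (N : Subgroup G) [N.Normal]
    (h : ∀ x ∈ N, f x ∈ N) : Split p (quotH f N h) := by
  refine ⟨quotH_hit f hs.1 N h, fun x => ?_⟩
  obtain ⟨x, rfl⟩ := QuotientGroup.mk_surjective x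
  rw [Nm_quot, hs.2]
  rfl

end Basics

section Sylow

variable {G : Type*} [Group G] [Finite G]

lemma exists_twist_sylow (f : G →* G) (hb : Function.Surjective f) (q : ℕ) [Fact q.Prime] :
    ∃ (g : G) (S : Sylow q G), ∀ x ∈ (S : Subgroup G), twist f g x ∈ (S : Subgroup G) := by
  obtain ⟨P⟩ : Nonempty (Sylow q G) := inferInstance
  let S' : Sylow q G := P.mapSurjective hb
  have hS' : (S' : Subgroup G) = (P : Subgroup G).map f := Sylow.coe_mapSurjective hb P
  obtain ⟨g, hg⟩ := MulAction.exists_smul_eq G S' P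
  refine ⟨g, P, fun x hx => ?_⟩
  have h1 : f x ∈ (S' : Subgroup G) := by
    rw [hS']
    exact ⟨x, hx, rfl⟩
  rw [← hg, Sylow.coe_subgroup_smul]
  exact ⟨f x, h1, rfl⟩

/-- An invariant subgroup on which `f` has no fixed points, of coprime order, centralizes a normal
invariant `r`-subgroup. -/
theorem centralizes_of_split (f : G →* G) {p : ℕ} (hp : p.Prime) (hs : Split p f) {r : ℕ}
    [Fact r.Prime] {P Q : Subgroup G} (hP : IsPGroup r P)
    (hPn : P.Normal) (hPf : ∀ x ∈ P, f x ∈ P) (hQf : ∀ x ∈ Q, f x ∈ Q)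
    (hQfpf : ∀ x ∈ Q, f x = x → x = 1)
    (hcop : (Nat.card Q).Coprime (Nat.card P)) : Q ≤ Subgroup.centralizer (P : Set G) := by
  classical
  have hb := hs.bijective hp.ne_zero
  let φ : MulAut G := MulEquiv.ofBijective f hb
  have hφ : ∀ x, φ x = f x := fun _ => rfl
  have hφpow : ∀ (n : ℕ) (x : G), (φ ^ n) x = f^[n] x := by
    intro n
    induction n with
    | zero => intro x; rfl
    | succ n ih =>
      intro x
      rw [pow_succ', MulAut.mul_apply, ih, hφ, Function.iterate_succ_apply']
  let E := SemidirectProduct G (MulAut G) (MonoidHom.id _)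
  haveI : Finite E := Finite.of_equiv _ SemidirectProduct.equivProd.symm
  let ι : G →* E := SemidirectProduct.inl
  have hι : Function.Injective ι := SemidirectProduct.inl_injective
  let t : E := SemidirectProduct.inr φ
  have htpow : ∀ n : ℕ, t ^ n = SemidirectProduct.inr (φ ^ n) := fun n => (map_pow _ _ _).symm
  have hconj1 : ∀ x : G, t * ι x * t⁻¹ = ι (f x) := by
    intro x
    change SemidirectProduct.inr φ * _ * (SemidirectProduct.inr φ)⁻¹ = _
    rw [← map_inv]
    exact (SemidirectProduct.inl_aut (φ := MonoidHom.id (MulAut G)) φ x).symm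
  have hconj := conj_iter ι t f hconj1
  have htr : t ^ p = 1 := by
    rw [htpow]
    have : φ ^ p = 1 := by
      ext x
      rw [hφpow, hs.1]
      rfl
    rw [this, map_one]
  have hnorm : ∀ x : G, (ι x * t) ^ p = 1 := by
    intro x
    rw [prod_formula ι t f hconj1, hs.2 x, map_one, one_mul, htr]
  have h := Cfsg.Agent.S3703.centralizes_mod_frattini (p := r) (P.map ι) (Q.map ι) t p hp.one_lt
    (hP.map ι) ?_ ?_ ?_ ?_ ?_ ?_
  · intro x hx
    rw [Subgroup.mem_centralizer_iff]
    intro y hy
    have h1 := h ⟨x, hx, rfl⟩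
    rw [Subgroup.mem_centralizer_iff] at h1
    have h2 := h1 (ι y) ⟨y, hy, rfl⟩
    apply hι
    simpa using h2
  · rintro _ ⟨y, hy, rfl⟩
    apply Cfsg.Agent.H20.mem_normalizer_of_conj_le
    rintro _ ⟨a, ha, rfl⟩
    refine ⟨y * a * y⁻¹, hPn.conj_mem a ha y, ?_⟩
    simp
  · apply Cfsg.Agent.H20.mem_normalizer_of_conj_le
    rintro _ ⟨a, ha, rfl⟩
    refine ⟨f a, hPf a ha, ?_⟩
    rw [hconj1]
  · rintro _ ⟨a, ha, rfl⟩
    refine ⟨f a, hQf a ha, ?_⟩
    rw [hconj1]
  · rintro i hi hir _ ⟨a, ha, rfl⟩ e
    rw [hconj] at e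
    have e' := hι e
    have h1 : Function.IsPeriodicPt f i a := e'
    have h2 : Function.IsPeriodicPt f p a := by
      change f^[p] a = a
      rw [hs.1]
      rfl
    have h3 := h1.gcd h2
    have hco : Nat.gcd i p = 1 :=
      Nat.Coprime.symm ((Nat.Prime.coprime_iff_not_dvd hp).mpr (Nat.not_dvd_of_pos_of_lt hi hir))
    rw [hco] at h3
    have h4 : f a = a := by simpa [Function.IsPeriodicPt, Function.IsFixedPt] using h3
    rw [hQfpf a ha h4, map_one]
  · rintro _ ⟨a, ha, rfl⟩
    refine ⟨hnorm a, ?_⟩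
    rintro _ ⟨b, hb', rfl⟩
    rw [← mul_assoc, ← map_mul]
    exact hnorm _
  · rw [Subgroup.card_map_of_injective hι, Subgroup.card_map_of_injective hι]
    exact hcop

end Sylow

section PPart

variable {G : Type*} [Group G] [Finite G]

/-- The `p`-part centralizes a normal invariant `r`-subgroup, `r ≠ p`. -/
theorem ppart_centralizes {p r : ℕ} [hpF : Fact p.Prime] [Fact r.Prime] (hrp : r ≠ p) (f : G →* G)
    (hs : Split p f) {S P : Subgroup G} (hS : IsPGroup r S) (hSn : S.Normal)
    (hSf : ∀ x ∈ S, f x ∈ S) (hP : IsPGroup p P) (hPf : ∀ x ∈ P, f x ∈ P) :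
    P ≤ Subgroup.centralizer (S : Set G) := by
  classical
  have hp : p.Prime := hpF.out
  haveI := hSn
  let θ : G →* MulAut S := MulAut.conjNormal
  have hθ : ∀ (g : G) (y : S), ((θ g y : S) : G) = g * y * g⁻¹ := fun g y => MulAut.conjNormal_apply g y
  -- `f` on `S`
  have hbS : Function.Bijective (resH f S hSf) := bijective_of_iterate _ hp.ne_zero (resH_hit f hs.1 S hSf)
  let b : MulAut S := MulEquiv.ofBijective (resH f S hSf) hbS
  have hb : ∀ y : S, ((b y : S) : G) = f y := fun y => rfl
  have hbpow : ∀ (n : ℕ) (y : S), ((b ^ n) y : G) = f^[n] y := by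
    intro n
    induction n with
    | zero => intro y; rfl
    | succ n ih =>
      intro y
      rw [pow_succ', MulAut.mul_apply, hb, ih, Function.iterate_succ_apply']
  have hbp : b ^ p = 1 := by
    ext y
    rw [hbpow, hs.1]
    rfl
  have hbθ : ∀ g : G, b * θ g * b⁻¹ = θ (f g) := by
    intro g
    ext y
    have h0 : ((b (b⁻¹ y) : S) : G) = y := by
      rw [← MulAut.mul_apply, mul_inv_cancel]
      rfl
    rw [MulAut.mul_apply, MulAut.mul_apply, hb, hθ, hθ, map_mul, map_mul, map_inv, ← hb (b⁻¹ y), h0]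
  let P₂ : Subgroup (MulAut S) := P.map θ
  have hP₂ : IsPGroup p P₂ := hP.map θ
  have hbN : b ∈ Subgroup.normalizer (P₂ : Set (MulAut S)) := by
    apply Cfsg.Agent.H20.mem_normalizer_of_conj_le
    rintro _ ⟨w, hw, rfl⟩
    rw [hbθ]
    exact ⟨f w, hPf w hw, rfl⟩
  have hZb : IsPGroup p (Subgroup.zpowers b) := by
    rintro ⟨x, hx⟩
    refine ⟨1, ?_⟩
    obtain ⟨n, rfl⟩ := Subgroup.mem_zpowers_iff.mp hx
    apply Subtype.ext
    change (b ^ n) ^ (p ^ 1) = 1
    rw [pow_one, ← zpow_natCast, zpow_comm, zpow_natCast, hbp, one_zpow]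
  have hZbN : Subgroup.zpowers b ≤ Subgroup.normalizer (P₂ : Set (MulAut S)) :=
    Subgroup.zpowers_le.mpr hbN
  let Gam : Subgroup (MulAut S) := Subgroup.zpowers b ⊔ P₂
  have hGam : IsPGroup p Gam := hZb.to_sup_of_normal_right' hP₂ hZbN
  have hP₂le : P₂ ≤ Gam := le_sup_right
  have hbGam : b ∈ Gam := le_sup_left (a := Subgroup.zpowers b) (b := P₂) (Subgroup.mem_zpowers b)
  have hnorm : Gam ≤ Subgroup.normalizer (P₂ : Set (MulAut S)) :=
    sup_le hZbN Subgroup.le_normalizer
  have hP₂bot : P₂ = ⊥ := by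
    by_contra hne
    have h1 := inf_center_ne_bot_of_pgroup hGam hP₂le hne hnorm
    let D := P₂ ⊓ (Gam ⊓ Subgroup.centralizer (Gam : Set (MulAut S)))
    have hDp : IsPGroup p D := hP₂.to_le inf_le_left
    haveI : Nontrivial D := (Subgroup.nontrivial_iff_ne_bot _).mpr h1
    have hdvd : p ∣ Nat.card D := by
      obtain ⟨n, hn⟩ := IsPGroup.iff_card.mp hDp
      have h2 : 1 < Nat.card D := Finite.one_lt_card
      rw [hn] at h2 ⊢
      exact dvd_pow_self p (by
        rintro rfl
        simp at h2)
    obtain ⟨z', hz'⟩ := exists_prime_orderOf_dvd_card' p hdvd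
    set z : MulAut S := (z' : MulAut S) with hzdef
    have hzord : orderOf z = p := by
      rw [hzdef, Subgroup.orderOf_coe, hz']
    have hzP : z ∈ P₂ := z'.2.1
    have hzc : b * z = z * b := by
      have := Subgroup.mem_centralizer_iff.mp z'.2.2.2 b hbGam
      exact this
    obtain ⟨w, hwP, hwz⟩ := hzP
    have hzp : z ^ p = 1 := by
      rw [← hzord]
      exact pow_orderOf_eq_one z
    -- the semidirect product
    let E := SemidirectProduct S (MulAut S) (MonoidHom.id _)
    haveI : Finite E := Finite.of_equiv _ SemidirectProduct.equivProd.symm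
    let ι : S →* E := SemidirectProduct.inl
    have hι : Function.Injective ι := SemidirectProduct.inl_injective
    let i₂ : MulAut S →* E := SemidirectProduct.inr
    have hconjE : ∀ (c : MulAut S) (y : S), i₂ c * ι y * (i₂ c)⁻¹ = ι (c y) := by
      intro c y
      change SemidirectProduct.inr c * _ * (SemidirectProduct.inr c)⁻¹ = _
      rw [← map_inv]
      exact (SemidirectProduct.inl_aut (φ := MonoidHom.id (MulAut S)) c y).symm
    let R : Subgroup E := ι.range
    have hRcard : Nat.card R = Nat.card S := by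
      have : R = (⊤ : Subgroup S).map ι := MonoidHom.range_eq_map ι
      rw [this, Subgroup.card_map_of_injective hι, Subgroup.card_top]
    have hcop : (Nat.card R).Coprime p := by
      rw [hRcard]
      obtain ⟨n, hn⟩ := IsPGroup.iff_card.mp hS
      rw [hn]
      exact Nat.Coprime.pow_left n ((Nat.coprime_primes Fact.out hp).mpr hrp)
    have hnormE : ∀ c : MulAut S, i₂ c ∈ Subgroup.normalizer (R : Set E) := by
      intro c
      apply Cfsg.Agent.H20.mem_normalizer_of_conj_le
      rintro _ ⟨y, rfl⟩
      rw [hconjE]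
      exact ⟨c y, rfl⟩
    have hfg := fixGen_eq (p := p) hcop (a := i₂ b) (b := i₂ z) (by
        change i₂ b * i₂ z = i₂ z * i₂ b
        rw [← map_mul, ← map_mul, hzc]) (by rw [← map_pow, hbp, map_one]) (by rw [← map_pow, hzp, map_one])
      (hnormE b) (hnormE z)
    have hle : R ≤ Subgroup.centralizer ({i₂ z} : Set E) := by
      rw [← hfg]
      refine iSup_le ?_
      rintro ⟨x, hx⟩
      rcases hx with rfl | ⟨i, hi, rfl⟩
      · exact inf_le_right
      · -- no fixed points
        rintro _ ⟨⟨y, rfl⟩, hy⟩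
        have h2 : i₂ (b * z ^ i) * ι y = ι y * i₂ (b * z ^ i) := by
          have := Subgroup.mem_centralizer_iff.mp hy (i₂ b * i₂ z ^ i) rfl
          rw [map_mul, map_pow]
          exact this
        have h3 := hconjE (b * z ^ i) y
        rw [h2, mul_inv_cancel_right] at h3
        have h4 : y = (b * z ^ i) y := hι h3
        -- the twist
        have h5 : (z ^ i) = θ (w ^ i) := by
          rw [map_pow, hwz]
        have h6 : twist f (f (w ^ i)) (y : G) = y := by
          have h7 := congrArg (Subtype.val) h4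
          rw [MulAut.mul_apply, hb, h5, hθ, map_mul, map_mul, map_inv] at h7
          rw [twist_apply]
          exact h7.symm
        have h8 := (hs.twist hp.ne_zero (f (w ^ i))).pow_eq_one h6
        have h9 : y = 1 := by
          obtain ⟨k, hk⟩ := hS y
          have h10 : y ^ p ^ 1 = 1 := by
            apply Subtype.ext
            simpa using h8
          have h11 : orderOf y ∣ p ^ 1 := orderOf_dvd_of_pow_eq_one h10
          have h12 : orderOf y ∣ r ^ k := orderOf_dvd_of_pow_eq_one hk
          have h13 : (r ^ k).Coprime (p ^ 1) :=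
            Nat.Coprime.pow _ _ ((Nat.coprime_primes Fact.out hp).mpr hrp)
          exact orderOf_eq_one_iff.mp (Nat.eq_one_of_dvd_coprimes h13.symm h11 h12)
        rw [h9, map_one]
        exact Subgroup.one_mem _
    have hz1 : z = 1 := by
      ext y
      have h2 := Subgroup.mem_centralizer_iff.mp (hle ⟨y, rfl⟩) (i₂ z) rfl
      have h3 := hconjE z y
      rw [h2, mul_inv_cancel_right] at h3
      have h4 := hι h3
      rw [← h4]
      rfl
    rw [hz1, orderOf_one] at hzord
    exact hp.one_lt.ne hzord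
  intro w hw
  rw [Subgroup.mem_centralizer_iff]
  intro y hy
  have h1 : θ w = 1 := by
    have : θ w ∈ P₂ := ⟨w, hw, rfl⟩
    rw [hP₂bot] at this
    exact this
  have h2 := hθ w ⟨y, hy⟩
  rw [h1] at h2
  have h3 : y = w * y * w⁻¹ := h2
  have h4 := congrArg (· * w) h3
  simpa using h4

end PPart

section Main

/-- Kegel's theorem. -/
theorem nilpotent_of_split {p : ℕ} (hp : p.Prime) : ∀ (n : ℕ) (G : Type u) [Group G] [Finite G]
    (f : G →* G), Nat.card G = n → Split p f → Group.IsNilpotent G := by
  intro n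
  induction n using Nat.strong_induction_on with
  | _ n ih =>
  intro G _ _ f hn hs
  classical
  haveI : Fact p.Prime := ⟨hp⟩
  have hb := hs.bijective hp.ne_zero
  have hsub : ∀ (β : G →* G), Split p β → ∀ H : Subgroup G, H ≠ ⊤ → (∀ x ∈ H, β x ∈ H) →
      Group.IsNilpotent H := by
    intro β hβ H hH hinv
    refine ih (Nat.card H) ?_ H (resH β H hinv) rfl (hβ.res H hinv)
    rw [← hn]
    exact Nat.lt_of_le_of_ne (Subgroup.card_le_card_group H)
      (fun h => hH (Subgroup.eq_top_of_card_eq H h))
  have hquo : ∀ (β : G →* G), Split p β → ∀ (N : Subgroup G) [N.Normal], N ≠ ⊥ → (∀ x ∈ N, β x ∈ N) →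
      Group.IsNilpotent (G ⧸ N) := by
    intro β hβ N _ hN hinv
    refine ih (Nat.card (G ⧸ N)) ?_ (G ⧸ N) (quotH β N hinv) rfl (hβ.quot N hinv)
    rw [← hn]
    have h1 : Nat.card N * N.index = Nat.card G := Subgroup.card_mul_index N
    have h2 : 1 < Nat.card N := by
      rw [Subgroup.one_lt_card_iff_ne_bot]
      exact hN
    have h3 : Nat.card (G ⧸ N) = N.index := rfl
    rw [h3, ← h1]
    have h4 : 0 < N.index := Nat.pos_of_ne_zero Subgroup.index_ne_zero_of_finite
    nlinarith
  have hfixed_one : ∀ (β : G →* G), Split p β → ∀ (q : ℕ) [Fact q.Prime], q ≠ p →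
      ∀ {x : G} (k : ℕ), x ^ q ^ k = 1 → β x = x → x = 1 := by
    intro β hβ q _ hq x k hk hx
    have h1 := hβ.pow_eq_one hx
    have h2 : orderOf x ∣ p := orderOf_dvd_of_pow_eq_one h1
    have h3 : orderOf x ∣ q ^ k := orderOf_dvd_of_pow_eq_one hk
    have h4 : (p).Coprime (q ^ k) :=
      Nat.Coprime.pow_right _ ((Nat.coprime_primes hp Fact.out).mpr (Ne.symm hq))
    exact orderOf_eq_one_iff.mp (Nat.eq_one_of_dvd_coprimes h4 h2 h3)
  have core : ∀ (q : ℕ) [Fact q.Prime], pCore q G ≠ ⊥ → Group.IsNilpotent G := by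
    intro q _ hR
    have hRn : (pCore q G).Normal := Cfsg.Agent.H01.pCore_normal q
    have hRp : IsPGroup q (pCore q G) := Cfsg.Agent.H01.pCore_isPGroup q
    have hRf : ∀ (β : G →* G), Function.Surjective β → ∀ x ∈ pCore q G, β x ∈ pCore q G := by
      intro β hβ x hx
      have hn' : ((pCore q G).map β).Normal := hRn.map β hβ
      have hp' : IsPGroup q ((pCore q G).map β) := hRp.map β
      exact Cfsg.Agent.H01.le_pCore hn' hp' ⟨x, hx, rfl⟩
    haveI := hRn
    have hGR : Group.IsNilpotent (G ⧸ pCore q G) := hquo f hs _ hR (hRf f hb.2)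
    obtain ⟨S⟩ : Nonempty (Sylow q G) := inferInstance
    have hRS : pCore q G ≤ (S : Subgroup G) := Cfsg.Agent.H01.pCore_le_sylow q S
    have hSn : (S : Subgroup G).Normal := by
      let π := QuotientGroup.mk' (pCore q G)
      have hπ : Function.Surjective π := QuotientGroup.mk'_surjective _
      let Sb : Sylow q (G ⧸ pCore q G) := S.mapSurjective hπ
      have hSb : (Sb : Subgroup (G ⧸ pCore q G)).Normal :=
        (Group.isNilpotent_of_finite_tfae (G := G ⧸ pCore q G)).out 0 3 rfl rfl |>.mp hGR q inferInstance Sb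
      have e : (Sb : Subgroup (G ⧸ pCore q G)).comap π = S := by
        rw [Sylow.coe_mapSurjective, Subgroup.comap_map_eq, QuotientGroup.ker_mk',
          sup_eq_left.mpr hRS]
      rw [← e]
      exact hSb.comap π
    have hSp : IsPGroup q (S : Subgroup G) := S.isPGroup'
    have hSeq : (S : Subgroup G) = pCore q G :=
      le_antisymm (Cfsg.Agent.H01.le_pCore hSn hSp) hRS
    have hSf : ∀ (β : G →* G), Function.Surjective β → ∀ x ∈ (S : Subgroup G), β x ∈ (S : Subgroup G) := by
      intro β hβ
      rw [hSeq]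
      exact hRf β hβ
    have hSne : (S : Subgroup G) ≠ ⊥ := by
      rw [hSeq]
      exact hR
    let C := Subgroup.centralizer ((S : Subgroup G) : Set G)
    have hCn : C.Normal := by
      haveI := hSn
      infer_instance
    have htop : (S : Subgroup G) ⊔ C = ⊤ := by
      apply Cfsg.Agent.H01.eq_top_of_forall_sylow_le
      intro q' _
      by_cases hqq : q' = q
      · subst hqq
        exact ⟨S, le_sup_left⟩
      · obtain ⟨g, Q', hQ'f⟩ := exists_twist_sylow f hb.2 q'
        have hβ := hs.twist hp.ne_zero g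
        have hβb := hβ.bijective hp.ne_zero
        refine ⟨Q', le_trans ?_ le_sup_right⟩
        by_cases hq'p : q' = p
        · subst hq'p
          exact ppart_centralizes (Ne.symm hqq) _ hβ hSp hSn (hSf _ hβb.2) Q'.isPGroup' hQ'f
        · refine centralizes_of_split _ hp hβ hSp hSn (hSf _ hβb.2) hQ'f ?_
            (IsPGroup.coprime_card_of_ne q' q hqq _ _ Q'.isPGroup' hSp)
          intro x hx hfx
          obtain ⟨k, hk⟩ := Q'.isPGroup' ⟨x, hx⟩
          have h1 : x ^ q' ^ k = 1 := by simpa [Subtype.ext_iff] using hk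
          exact hfixed_one _ hβ q' hq'p k h1 hfx
    have hGS : Group.IsNilpotent (G ⧸ (S : Subgroup G)) := by
      haveI := hSn
      exact hquo f hs _ hSne (hSf f hb.2)
    have hCnil : Group.IsNilpotent C := by
      haveI := hSn
      haveI := hGS
      refine Subgroup.isNilpotent_of_ker_le_center
        ((QuotientGroup.mk' (S : Subgroup G)).comp C.subtype) ?_
      intro x hx
      rw [Subgroup.mem_center_iff]
      intro y
      have h1 : (x : G) ∈ (S : Subgroup G) := by
        have : (QuotientGroup.mk' (S : Subgroup G)) (x : G) = 1 := hx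
        simpa using this
      have h2 := Subgroup.mem_centralizer_iff.mp y.2 (x : G) h1
      apply Subtype.ext
      exact h2.symm
    have hSnil : Group.IsNilpotent (S : Subgroup G) := hSp.isNilpotent
    have h1 : (S : Subgroup G) ≤ fittingSubgroup G := Cfsg.Agent.H01.le_fitting hSn hSnil
    have h2 : C ≤ fittingSubgroup G := Cfsg.Agent.H01.le_fitting hCn hCnil
    have h3 : fittingSubgroup G = ⊤ := by
      rw [eq_top_iff, ← htop]
      exact sup_le h1 h2
    have h4 := Cfsg.Agent.H01.fitting_nilpotent (G := G)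
    rw [h3] at h4
    exact (Group.isNilpotent_congr Subgroup.topEquiv).mp h4
  by_cases hp2 : p = 2
  · subst hp2
    have hinv : ∀ x : G, f x = x⁻¹ := by
      intro x
      have h1 := hs.2 x
      rw [Nm_succ, Nm_succ, Nm_zero, map_one, mul_one] at h1
      exact eq_inv_of_mul_eq_one_right h1
    have hcomm : ∀ x y : G, x * y = y * x := by
      intro x y
      have h1 := map_mul f x y
      rw [hinv, hinv, hinv, mul_inv_rev] at h1
      have h2 := congrArg (·⁻¹) h1
      have h3 : y * x = x * y := by simpa using h2.symm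
      exact h3.symm
    letI : CommGroup G := { (inferInstance : Group G) with mul_comm := hcomm }
    exact CommGroup.isNilpotent
  by_cases hpd : p ∣ Nat.card G
  · obtain ⟨g, P, hPf⟩ := exists_twist_sylow f hb.2 p
    have hβ := hs.twist hp.ne_zero g
    have hβb := hβ.bijective hp.ne_zero
    set β := twist f g with hβdef
    have hPne : (P : Subgroup G) ≠ ⊥ := P.ne_bot_of_dvd_card hpd
    have hPp : IsPGroup p (P : Subgroup G) := P.isPGroup'
    have hle_eq : ∀ {H : Subgroup G}, H.map β ≤ H → H.map β = H := by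
      intro H hH
      refine Subgroup.eq_of_le_of_card_ge hH ?_
      rw [Subgroup.card_map_of_injective hβb.1]
    have hPmap : (P : Subgroup G).map β = P := hle_eq (by
      rintro _ ⟨x, hx, rfl⟩
      exact hPf x hx)
    have hJmap : ((elFam G p).jj (P : Subgroup G)).map β = (elFam G p).jj (P : Subgroup G) := by
      rw [← jj_map p β _ (fun x _ h => hβb.1 (by simpa using h)), hPmap]
    have hZmap : (zS (P : Subgroup G)).map β = zS (P : Subgroup G) := by
      rw [← zS_map β _ (fun x _ h => hβb.1 (by simpa using h)), hPmap]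
    have hcore_of_normal : ∀ X : Subgroup G, X.Normal → IsPGroup p X → X ≠ ⊥ →
        Group.IsNilpotent G := by
      intro X hX hXp hXb
      refine core p ?_
      intro h
      apply hXb
      rw [eq_bot_iff, ← h]
      exact Cfsg.Agent.H01.le_pCore hX hXp
    have hJle : (elFam G p).jj (P : Subgroup G) ≤ P := jj_le _
    have hZle : zS (P : Subgroup G) ≤ P := inf_le_left
    have hNinv : ∀ x ∈ Subgroup.normalizer (((elFam G p).jj (P : Subgroup G) : Subgroup G) : Set G),
        β x ∈ Subgroup.normalizer (((elFam G p).jj (P : Subgroup G) : Subgroup G) : Set G) := by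
      intro x hx
      apply Cfsg.Agent.H20.mem_normalizer_of_conj_le
      intro y hy
      rw [← hJmap] at hy ⊢
      obtain ⟨z, hz, rfl⟩ := hy
      refine ⟨x * z * x⁻¹, ?_, by simp⟩
      exact (Subgroup.mem_normalizer_iff.mp hx z).mp hz
    have hCinv : ∀ x ∈ Subgroup.centralizer ((zS (P : Subgroup G) : Subgroup G) : Set G),
        β x ∈ Subgroup.centralizer ((zS (P : Subgroup G) : Subgroup G) : Set G) := by
      intro x hx
      rw [Subgroup.mem_centralizer_iff]
      intro y hy
      have hy' : y ∈ (zS (P : Subgroup G)).map β := by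
        rw [hZmap]
        exact hy
      obtain ⟨z, hz, rfl⟩ := hy'
      have := Subgroup.mem_centralizer_iff.mp hx z hz
      rw [← map_mul, ← map_mul, this]
    by_cases hNtop : Subgroup.normalizer (((elFam G p).jj (P : Subgroup G) : Subgroup G) : Set G) = ⊤
    · refine hcore_of_normal _ (Subgroup.normalizer_eq_top_iff.mp hNtop)
        (hPp.to_le hJle) (jj_ne_bot hPp hPne)
    by_cases hCtop : Subgroup.centralizer ((zS (P : Subgroup G) : Subgroup G) : Set G) = ⊤
    · have hZc : ∀ (z : G), z ∈ zS (P : Subgroup G) → ∀ g : G, g * z * g⁻¹ = z := by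
        intro z hz g
        have h1 : g ∈ Subgroup.centralizer ((zS (P : Subgroup G) : Subgroup G) : Set G) := by
          rw [hCtop]
          trivial
        have h2 := Subgroup.mem_centralizer_iff.mp h1 z hz
        rw [← h2]
        group
      refine hcore_of_normal _ ⟨?_⟩ (hPp.to_le hZle) (zS_ne_bot hPp hPne)
      intro z hz g
      rw [hZc z hz g]
      exact hz
    have h1 := hsub β hβ _ hNtop hNinv
    have h2 := hsub β hβ _ hCtop hCinv
    have hfc : FrobCond p G := th_all hp2 (Nat.card G + 1) G (by omega) P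
      (frobCond_of_nilpotent p) (frobCond_of_nilpotent p)
    obtain ⟨L, hLn, hLc, k, hk⟩ := npc_iff.mp (hasNormalPComplement_of_frobCond hfc)
    by_cases hLb : L = ⊥
    · subst hLb
      have hcard : Nat.card G = p ^ k := by
        have := Subgroup.card_mul_index (⊥ : Subgroup G)
        rw [hk] at this
        simpa using this.symm
      exact (IsPGroup.of_card hcard).isNilpotent
    have hLf : ∀ x ∈ L, β x ∈ L := by
      intro x hx
      have h3 : (β x) ^ L.index ∈ L := Subgroup.pow_index_mem L _
      refine mem_of_pow_mem_coprime h3 ?_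
      rw [hk]
      have h4 : orderOf (β x) ∣ orderOf x := orderOf_map_dvd β x
      have h5 : orderOf x ∣ Nat.card L := by
        have := Subgroup.orderOf_dvd_natCard L hx
        exact this
      have h6 : (Nat.card L).Coprime p := hLc
      exact Nat.Coprime.pow_left k (Nat.Coprime.coprime_dvd_left (h4.trans h5) h6).symm
    have hLt : L ≠ ⊤ := by
      intro h
      subst h
      rw [Nat.card_congr (Subgroup.topEquiv (G := G)).toEquiv] at hLc
      exact (Nat.Prime.coprime_iff_not_dvd hp).mp hLc.symm hpd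
    have hLnil := hsub β hβ L hLt hLf
    have hL1 : Nat.card L ≠ 1 := by
      intro h
      apply hLb
      exact Subgroup.card_eq_one.mp h
    obtain ⟨q, hq, hqd⟩ := Nat.exists_prime_and_dvd hL1
    haveI : Fact q.Prime := ⟨hq⟩
    obtain ⟨T⟩ : Nonempty (Sylow q L) := inferInstance
    have hTn : (T : Subgroup L).Normal :=
      (Group.isNilpotent_of_finite_tfae (G := L)).out 0 3 rfl rfl |>.mp hLnil q inferInstance T
    haveI := hLn
    haveI := hTn
    haveI hTc : (T : Subgroup L).Characteristic := Sylow.characteristic_of_normal T hTn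
    have hmapn : ((T : Subgroup L).map L.subtype).Normal :=
      ConjAct.normal_of_characteristic_of_normal
    refine core q ?_
    intro h
    have h3 : (T : Subgroup L).map L.subtype ≤ pCore q G :=
      Cfsg.Agent.H01.le_pCore hmapn (T.isPGroup'.map L.subtype)
    rw [h] at h3
    have h4 : (T : Subgroup L) = ⊥ := by
      rw [eq_bot_iff]
      intro x hx
      have := h3 ⟨x, hx, rfl⟩
      rw [Subgroup.mem_bot] at this ⊢
      exact Subtype.ext this
    exact T.ne_bot_of_dvd_card hqd h4
  · -- `f` has no fixed points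
    refine nilpotent_of_fpf hp _ G f rfl ?_ hs.1
    intro x hx
    have h1 := hs.pow_eq_one hx
    have h2 : orderOf x ∣ p := orderOf_dvd_of_pow_eq_one h1
    have h3 : orderOf x ∣ Nat.card G := orderOf_dvd_natCard x
    have h4 : p.Coprime (Nat.card G) := (Nat.Prime.coprime_iff_not_dvd hp).mpr hpd
    exact orderOf_eq_one_iff.mp (Nat.eq_one_of_dvd_coprimes h4 h2 h3)

end Main

end Cfsg.Agent.H26.Kegel
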