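import Cfsg.Agent.Lib.H27.GolayClasses

/-! Data: standard generators of the point stabiliser and words for the transversal (generated by a script). -/

set_option autoImplicit false
set_option maxRecDepth 100000

namespace Cfsg.Agent.H26.M23Gen

def genA : ℕ := 972715533645191023441926575607612480
def genB : ℕ := 982056927195227076529105351477305462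
def W2 : List (List ℕ) := [[], [0, 3, 0, 3, 3, 0, 1, 0, 1, 0, 1, 0, 1, 1, 1, 1, 1, 0, 3, 0, 1, 0], [1, 1, 0, 3, 3, 3, 0, 1, 0, 3, 3, 1, 0, 3, 0, 3, 0, 3, 0, 1, 1, 1, 1], [0, 1, 1, 1, 0, 1, 1, 0, 3, 3, 0, 1, 0, 1, 0, 1, 1, 0, 1, 1, 0, 1], [1, 1, 0, 3, 0, 3, 3, 3, 0, 3, 3, 3, 3, 3, 3, 3, 3, 3, 3, 3, 0, 3, 3], [3, 0, 1, 1, 0, 3, 3, 3, 0, 3, 0, 1, 1, 0, 1, 1, 1, 1, 0, 3, 3, 0, 1], [1, 1, 1, 1, 0, 3, 0, 3, 3, 3, 0, 1, 0, 3, 0, 3, 0, 1, 0, 1, 0, 3, 3, 3, 0], [3, 3, 0, 1, 0, 1, 1, 0, 1, 1, 1, 0, 3, 0, 3, 0, 3, 0, 1, 0, 1, 1], [3, 0, 1, 1, 0, 1, 1, 0, 3, 3, 0, 0, 3, 0, 1, 1, 0, 1, 1, 1, 1, 0], [0, 3, 0, 3, 0, 1, 1, 0, 1, 0, 3, 0, 1, 1, 0, 3, 0,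 3, 3, 0, 1, 0, 3, 0, 1], [3, 3, 0, 3, 0, 3, 0, 1, 1, 1, 1, 0, 1, 1, 1, 1, 1, 0, 1, 0, 1, 0, 1], [3, 0, 1, 0, 1, 1, 1, 1, 1, 1, 0, 3, 3, 3, 0, 3, 0, 3, 0, 3, 0, 1], [3, 0, 1, 0, 1, 0, 1, 0, 1, 1, 1, 0, 3, 3, 3, 3, 3, 3, 0, 3, 0, 1], [3, 0, 3, 0, 3, 0, 3, 3, 3, 3, 3, 0, 3, 3, 3, 3, 0, 1, 0, 1, 0, 1, 1], [1, 1, 1, 1, 1, 0, 1, 0, 3, 3, 3, 0, 3, 3, 3, 3, 3, 0, 3, 3, 0, 1, 1, 0], [0, 3, 3, 3, 3, 0, 3, 3, 0, 1, 1, 1, 0, 3, 3, 0, 3, 3, 0, 1], [3, 3, 0, 3, 0, 1, 0, 1, 0, 1, 0, 3, 3, 3, 0, 3, 3, 0, 3, 0, 1, 1], [1, 0, 1, 0, 1, 1, 1, 0, 1, 0, 1, 0, 1, 1, 1, 0, 3, 0, 3, 0, 3], [1, 1, 0, 3, 3, 0, 3, 3, 3, 3, 0, 1, 0, 1, 0, 3, 3, 3, 0, 1, 0, 3], [1,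 1, 0, 1, 1, 1, 1, 1, 1, 1, 1, 1, 1, 1, 0, 1, 1, 1, 0, 1, 0, 3, 3], [3, 0, 3, 3, 0, 3, 3, 0, 3, 0, 3, 0, 1, 1, 0, 3, 3, 0, 3, 3, 3, 0], [3, 3, 3, 3, 0, 1, 0, 1, 0, 1, 0, 1, 0, 3, 0, 1, 1, 1, 0, 3, 3], [0, 3, 0, 1, 0, 3, 3, 3, 3, 3, 0, 3, 0, 3, 0, 3, 0, 1, 1, 0, 1, 0]]
def W3 : List (List ℕ) := [[], [3, 3, 0, 1, 1, 1, 1, 0, 1, 1, 1, 1, 1, 0, 3, 0], [1, 1, 0, 3, 3, 0, 1, 0, 1, 1, 1, 0, 3, 3, 0, 3, 3, 3, 0, 1, 1], [0, 1, 0, 3, 3, 3, 3, 3, 0, 3, 3, 3, 3, 0, 1, 1], [1, 1, 0, 3, 0, 1, 1, 1, 0, 3, 3, 0, 3, 0, 3, 3, 3, 3, 3, 0, 1, 1, 0, 1], [1, 1, 0, 3, 3, 0, 3, 3, 0, 3, 3, 3, 3, 3, 0, 1, 0, 3, 3, 0, 3, 0], [3, 0, 3, 0, 1, 0, 3, 3, 0, 3, 0, 3, 3,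 0, 1, 1, 0, 3], [3, 0, 1, 1, 1, 1, 0, 3, 3, 0, 3, 0, 3, 3, 0, 1, 0, 3, 0, 1], [0, 1, 0, 3, 3, 0, 3, 0, 3, 3, 0, 3, 3, 3, 0, 3, 3, 0, 1, 0, 1, 0, 3, 3], [1, 1, 0, 3, 0, 3, 3, 0, 3, 3, 0, 3, 3, 3, 0, 1, 0, 1, 0, 3, 0, 1, 0], [1, 1, 1, 0, 1, 0, 1, 0, 3, 0, 3, 3, 3, 3, 0, 1, 0, 1, 0, 1, 1], [1, 0, 3, 3, 3, 3, 0, 3, 3, 0, 3, 0, 1, 0, 3, 3, 3, 3, 0, 1, 0, 3], [3, 0, 1, 0, 3, 0, 1, 1, 0, 3, 3, 0, 1, 1, 0, 1, 0, 1, 1, 0, 3, 3, 3], [3, 0, 3, 0, 1, 1, 0, 1, 0, 3, 0, 3, 0, 3, 0, 3, 0, 3, 0, 1, 1], [0, 1, 1, 0, 3, 3, 3, 3, 0, 1, 0, 3, 3, 3, 0, 3, 0, 1, 0, 3, 0, 1], [0, 3, 0, 1, 1, 1, 1, 0, 1, 0, 3, 3, 0, 1, 1, 1, 1, 1, 1, 1, 0, 3, 3, 3, 3], [0, 1,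 1, 1, 0, 3, 0, 1, 0, 3, 3, 3, 0, 3, 3, 0, 3, 3, 3, 3, 0, 3, 0], [0, 1, 0, 1, 1, 0, 3, 0, 1, 1, 1, 1, 1, 0, 1, 1, 0, 1, 1, 0, 3, 3], [3, 3, 3, 0, 1, 1, 1, 1, 1, 0, 1, 0, 3, 0, 3, 0, 1, 0, 3, 0, 3], [0, 1, 1, 0, 1, 1, 1, 1, 1, 0, 3, 3, 0, 3, 0, 3, 3, 0, 3, 3, 0], [1, 0, 3, 0, 1, 1, 0, 1, 0, 1, 1, 0, 1, 1, 1, 0, 1, 0, 1, 0], [3, 0, 3, 3, 0, 1, 1, 0, 1, 1, 0, 3, 3, 3, 0, 1, 1, 1, 0, 3, 0, 3]]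
def W4 : List (List ℕ) := [[], [0, 3, 3, 3, 3, 0, 3, 0, 1, 1, 0, 3, 3, 0, 1, 1, 0, 1, 0, 3, 3, 3], [3, 3, 0, 3, 3, 3, 3, 0, 3, 0, 1, 0, 1, 1, 0, 3, 3, 0, 3], [0, 1, 1, 0, 1, 0, 3, 0, 3, 0, 1, 1, 0, 1, 1, 0, 3, 3, 0, 3, 3, 0, 3, 0], [1, 1, 0, 3, 0, 1, 1, 1, 0, 3, 3, 3, 3, 3, 3, 0, 1, 1, 1, 0, 1, 0, 1], [3, 3, 0, 1, 1, 0, 1, 1, 1, 0, 1, 1, 1, 1, 0, 3, 3, 0, 3, 3, 3, 3], [1, 1, 0, 1, 0, 1, 0, 1, 1, 0, 1, 0, 3, 3, 3, 3, 3, 3], [1, 1, 1, 0, 3, 3, 0, 1, 0, 3, 3, 0, 1, 0, 1, 1, 1, 1, 1, 1, 1, 1, 1], [3, 0, 1, 0, 1, 0, 1, 1, 0, 3, 3, 3, 3, 3, 3, 3, 3, 3, 0, 1, 0], [1, 1, 1, 1, 1, 1, 0, 1, 1, 0, 1, 0, 1, 0, 3, 3, 3, 0, 3, 3], [3, 0, 3, 0, 1, 1,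 1, 1, 0, 3, 3, 3, 3, 0, 3, 3, 3], [3, 3, 0, 3, 0, 1, 0, 1, 0, 1, 0, 1, 1, 0, 1, 1, 1, 0, 3, 3, 0, 1, 0, 1, 0], [0, 3, 3, 0, 3, 3, 3, 0, 1, 1, 0, 1, 0, 1, 0, 3, 0, 1, 1, 0], [1, 0, 3, 3, 3, 3, 0, 1, 1, 1, 0, 1, 1, 0, 1, 0, 1, 1, 1, 0, 1, 1], [1, 0, 3, 3, 3, 3, 0, 1, 0, 1, 1, 1, 0, 1, 1, 1, 1, 0, 3, 3, 0, 1], [3, 0, 1, 0, 3, 0, 3, 3, 3, 0, 1, 1, 0, 1, 1, 0, 3, 3, 3, 3, 0], [0, 1, 0, 3, 0, 1, 1, 1, 0, 1, 1, 1, 1, 0, 3, 0, 3, 0, 1, 1, 1, 0], [3, 3, 3, 0, 1, 0, 1, 1, 0, 3, 3, 0, 3, 0, 3, 0, 1, 1, 1, 1], [0, 3, 3, 3, 3, 0, 1, 1, 0, 3, 3, 0, 3, 0, 1, 1, 1, 1, 1, 0, 3, 3, 3], [1, 1, 0, 1, 1, 1, 0, 1, 0, 3, 0, 3, 0, 1, 1, 1, 1, 1, 0, 3, 0, 3, 3,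 0], [3, 0, 3, 0, 1, 0, 3, 0, 3, 0, 3, 0, 3, 1, 0]]
def W5 : List (List ℕ) := [[], [0, 1, 0, 1, 0, 1, 0, 1, 1, 0, 1, 0, 3, 0, 3, 3, 0, 3, 0, 3, 0, 3, 0], [0, 3, 3, 3, 3, 0, 1, 1, 0, 1, 1, 1, 0, 3, 3, 0, 1, 0, 3], [1, 0, 1, 0, 1, 1, 1, 1, 0, 3, 3, 3, 3, 0, 3, 0, 1, 0, 3, 0, 3, 3], [3, 3, 3, 3, 3, 0, 3, 0, 3, 3, 0, 3, 3, 3], [1, 1, 0, 1, 1, 1, 1, 0, 3, 0, 3, 3, 0, 1, 1, 0, 1, 0, 1], [0, 1, 0, 3, 0, 3, 0, 1, 0, 1, 1, 1, 1, 0, 3, 0, 3, 3, 0, 1, 1, 0], [0, 3, 3, 0, 1, 0, 1, 0, 1, 1, 1, 1, 0, 1, 0, 3, 3, 0, 1, 0, 3, 3], [0, 1, 1, 1, 1, 0, 3, 0, 1, 1, 0, 1, 1, 0, 3, 3, 0, 1, 1, 1, 1, 1], [1, 1, 1, 1, 1, 1, 1, 1, 1, 0, 3, 3, 0, 1, 0, 1, 0, 1, 0,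 1, 1], [0, 3, 3, 3, 3, 0, 3, 0, 3, 0, 3, 3, 0, 1, 1, 1, 0, 1, 0, 1, 0, 1], [1, 1, 0, 3, 3, 3, 3, 3, 0, 3, 3, 0, 1, 1, 0, 1, 1, 0, 1, 1], [3, 3, 0, 1, 0, 3, 0, 3, 0, 3, 0, 1, 0, 1, 1, 1, 1, 0, 1, 1], [1, 0, 1, 1, 1, 1, 0, 3, 0, 3, 3, 0, 1, 1, 0, 3, 0, 1, 0, 1, 1], [3, 3, 0, 3, 3, 0, 3, 3, 0, 1, 1, 0, 1, 1, 1, 1, 1, 0, 3, 3], [3, 0, 3, 0, 3, 0, 3, 3, 3, 0, 1, 1, 0, 1, 0, 1, 0, 1, 1, 1, 1, 0], [1, 0, 1, 1, 1, 0, 3, 0, 3, 3, 3, 1, 0, 1, 0, 1, 0, 1, 0, 3, 3], [0, 1, 1, 0, 3, 3, 3, 0, 1, 0, 3, 3, 0, 1, 0, 1, 1, 0, 1, 0, 1, 1, 0], [3, 3, 0, 1, 0, 3, 3, 0, 1, 1, 0, 1, 0, 3, 3, 3, 3, 0, 3, 3, 3, 3, 3], [1, 1, 0, 3, 0, 3, 0, 3, 0, 1, 1, 0, 1, 0,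 3, 3, 3, 0, 3]]
def W6 : List (List ℕ) := [[], [3, 0, 3, 0, 3, 0, 1, 1, 1, 0, 1, 0, 3, 3, 0, 3, 3, 0, 1, 0, 1, 1, 0], [0, 3, 3, 0, 3, 0, 1, 1, 0, 1, 1, 0, 3, 0, 3, 3, 3, 0, 1, 0, 1, 0, 1]]
def W7 : List (List ℕ) := [[], [0, 3, 0, 3, 0, 3, 3, 3, 0, 1, 0, 3, 3, 3, 0, 3, 0, 3, 3, 0, 3, 0], [3, 0, 1, 0, 1, 1, 0, 1, 1, 0, 3, 3, 0, 3, 3, 0, 3, 0, 1], [1, 0, 1, 0, 3, 0, 1, 1, 1, 0, 1, 0, 1, 0, 1, 0, 1, 0, 1], [0, 1, 1, 0, 3, 0, 1, 0, 1, 0, 3, 0, 3, 3, 0, 3, 3, 3, 0, 1, 1, 1, 1, 0, 1], [1, 1, 0, 3, 3, 0, 1, 0, 3, 3, 3, 3, 3, 0, 1, 0, 3, 3, 3, 0, 1, 1], [1, 1, 1, 1, 1, 1, 0, 3, 0, 1, 0, 3, 3, 3, 3, 3, 3], [1, 0, 1, 0, 1, 1, 1, 1, 1, 0, 3, 3, 3,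 3, 3, 0, 3, 0, 3], [0, 3, 3, 3, 0, 1, 1, 1, 0, 3, 0, 1, 0, 3, 3, 3, 0, 1, 1, 1, 0], [1, 0, 1, 1, 0, 3, 3, 0, 3, 3, 0, 1, 1, 0, 1, 1, 0, 3, 3, 0, 3], [1, 1, 0, 1, 1, 1, 0, 1, 0, 3, 0, 3, 3, 3, 0, 3, 3, 0], [3, 0, 1, 1, 0, 3, 3, 0, 3, 0, 1, 1, 0, 3, 3, 3, 3, 3, 0, 3], [0, 3, 0, 3, 0, 3, 0, 3, 0, 3, 0, 3, 3, 3, 0, 1, 0, 3, 0, 3, 0], [1, 1, 0, 1, 0, 3, 3, 3, 3, 0, 3, 0, 3, 0, 1, 0, 3, 0, 3, 0, 3, 3, 3, 3], [0, 1, 1, 1, 1, 1, 1, 0, 3, 0, 1, 0, 3, 3, 3, 3, 3, 3, 0], [3, 3, 3, 0, 1, 1, 1, 0, 3, 0, 1, 0, 3, 3, 3, 0, 1, 1, 1]]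

end Cfsg.Agent.H26.M23Gen
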