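import Cfsg.Agent.Lib.H02.Quad6
import Cfsg.Agent.Lib.Lead.DicksonSL
import Mathlib

/-! Quadratic pairs: sections isomorphic to `SL₂(p)`. -/

set_option autoImplicit false
set_option linter.style.haveILetI false
set_option linter.unusedVariables false

namespace Cfsg.Agent.H26.QuadSL

open Cfsg Matrix MatrixGroups

/-- A section coming from a subgroup of the image of a homomorphism defined on a subgroup. -/
theorem section_of_hom {G H T : Type*} [Group G] [Group H] [Group T] (D : Subgroup G) (φ : D →* H)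
    (K₀ : Subgroup H) (hK₀ : K₀ ≤ φ.range) (e : K₀ ≃* T) :
    ∃ (K L : Subgroup G) (hL : (L.subgroupOf K).Normal), K ≤ D ∧
      Nonempty ((K ⧸ L.subgroupOf K) ≃* T) := by
  classical
  let K : Subgroup G := (K₀.comap φ).map D.subtype
  let L : Subgroup G := φ.ker.map D.subtype
  have hKD : K ≤ D := by
    rintro _ ⟨y, _, rfl⟩
    exact y.2
  let ψ₀ : K →* H := φ.comp (Subgroup.inclusion hKD)
  have hψ₀ : ∀ x : K, ψ₀ x ∈ K₀ := by
    rintro ⟨_, y, hy, rfl⟩
    exact hy
  let ψ₁ : K →* K₀ := ψ₀.codRestrict K₀ hψ₀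
  let ψ : K →* T := e.toMonoidHom.comp ψ₁
  have hsurj : Function.Surjective ψ := by
    intro t
    obtain ⟨u, rfl⟩ := e.surjective t
    obtain ⟨y, hy⟩ := hK₀ u.2
    have hmem : (y : D) ∈ K₀.comap φ := by
      show φ y ∈ K₀
      rw [hy]; exact u.2
    refine ⟨⟨y.1, ⟨y, hmem, rfl⟩⟩, ?_⟩
    show e (ψ₁ _) = e u
    congr 1
    apply Subtype.ext
    exact hy
  have hker : L.subgroupOf K = ψ.ker := by
    ext x
    rw [Subgroup.mem_subgroupOf, MonoidHom.mem_ker]
    constructor
    · rintro ⟨y, hy, hyx⟩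
      have h1 : ψ₁ x = 1 := by
        apply Subtype.ext
        show φ (Subgroup.inclusion hKD x) = 1
        have : Subgroup.inclusion hKD x = y := by
          apply Subtype.ext
          exact hyx.symm
        rw [this]
        exact hy
      show e (ψ₁ x) = 1
      rw [h1, map_one]
    · intro h
      have h1 : ψ₁ x = 1 := by
        apply e.injective
        rw [map_one]
        exact h
      have h2 : φ (Subgroup.inclusion hKD x) = 1 := congrArg Subtype.val h1
      exact ⟨Subgroup.inclusion hKD x, h2, rfl⟩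
  refine ⟨K, L, ?_, hKD, ?_⟩
  · rw [hker]; exact MonoidHom.normal_ker ψ
  · haveI : (L.subgroupOf K).Normal := by rw [hker]; exact MonoidHom.normal_ker ψ
    exact ⟨(QuotientGroup.quotientMulEquivOfEq hker).trans
      (QuotientGroup.quotientKerEquivOfSurjective ψ hsurj)⟩

variable {G : Type*} [Group G] [Finite G] {p : ℕ} [hp : Fact p.Prime]

/-- A subgroup generated by elements whose `p`-th powers vanish, which is not a `p`-group, has
several Sylow `p`-subgroups. -/
theorem one_lt_card_sylow {R : Type*} [Group R] [Finite R] (S : Set R) (hS : Subgroup.closure S = ⊤)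
    (hSp : ∀ x ∈ S, x ^ p = 1) (hnp : ¬ IsPGroup p R) : 1 < Nat.card (Sylow p R) := by
  rw [Finite.one_lt_card_iff_nontrivial]
  by_contra hcon
  rw [not_nontrivial_iff_subsingleton] at hcon
  apply hnp
  obtain ⟨P⟩ : Nonempty (Sylow p R) := inferInstance
  have hle : ∀ x ∈ S, x ∈ (P : Subgroup R) := by
    intro x hx
    have hz : IsPGroup p (Subgroup.zpowers x) := by
      rw [IsPGroup.iff_card, Nat.card_zpowers]
      have h1 := orderOf_dvd_of_pow_eq_one (hSp x hx)
      rcases (Nat.dvd_prime hp.out).mp h1 with h | h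
      · exact ⟨0, by simpa using h⟩
      · exact ⟨1, by simpa using h⟩
    obtain ⟨P', hP'⟩ := hz.exists_le_sylow
    have : P' = P := Subsingleton.elim _ _
    rw [← this]
    exact hP' (Subgroup.mem_zpowers x)
  have htop : (P : Subgroup R) = ⊤ := by
    rw [eq_top_iff, ← hS]
    exact (Subgroup.closure_le _).2 hle
  have := P.isPGroup'
  rw [htop] at this
  exact this.of_equiv Subgroup.topEquiv

/-- The image of a homomorphism from a group generated by elements of order dividing `p` into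
`SL₂(K)` contains `SL₂(p)` when it is not a `p`-group. -/
theorem exists_sl2_in_range {Γ : Type*} [Group Γ] [Finite Γ] {K : Type*} [Field K] [Finite K] [CharP K p]
    (hp2 : p ≠ 2) (φ : Γ →* SL(2, K)) (S : Set Γ) (hS : Subgroup.closure S = ⊤)
    (hSp : ∀ x ∈ S, x ^ p = 1) (hnp : ¬ IsPGroup p φ.range) :
    ∃ K₀ : Subgroup SL(2, K), K₀ ≤ φ.range ∧ Nonempty (K₀ ≃* SL(2, ZMod p)) := by
  haveI : Finite φ.range := Finite.of_surjective φ.rangeRestrict φ.rangeRestrict_surjective
  apply Cfsg.Agent.Lead.DicksonSL.dickson_sl hp2 φ.range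
  apply one_lt_card_sylow (φ.rangeRestrict '' S) _ _ hnp
  · rw [← MonoidHom.map_closure, hS, ← MonoidHom.range_eq_map]
    exact MonoidHom.range_eq_top.mpr φ.rangeRestrict_surjective
  · rintro _ ⟨y, hy, rfl⟩
    rw [← map_pow, hSp y hy, map_one]

/-- Two quadratic generators of a faithful group that is not a `p`-group: a section `SL₂(p)`. -/
theorem section_of_quad_pair (hp2 : p ≠ 2) (V D : Subgroup G) (hV : IsElementaryAbelian p V)
    (hDV : D ≤ Subgroup.normalizer (V : Set G)) (hf : D ⊓ Subgroup.centralizer (V : Set G) = ⊥)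
    (a b : G) (hab : D = Subgroup.closure {a, b})
    (ha : ⁅⁅V, Subgroup.zpowers a⁆, Subgroup.zpowers a⁆ = ⊥)
    (hb : ⁅⁅V, Subgroup.zpowers b⁆, Subgroup.zpowers b⁆ = ⊥)
    (hnp : ¬ IsPGroup p D) :
    ∃ (K L : Subgroup G) (hL : (L.subgroupOf K).Normal), K ≤ D ∧
      Nonempty ((K ⧸ L.subgroupOf K) ≃* SL(2, ZMod p)) := by
  subst hab
  have hgen := Cfsg.Agent.H02.closure_pair_coe_eq_top a b
  set a' : Subgroup.closure ({a, b} : Set G) := ⟨a, Subgroup.subset_closure (by simp)⟩ with ha'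
  set b' : Subgroup.closure ({a, b} : Set G) := ⟨b, Subgroup.subset_closure (by simp)⟩ with hb'
  obtain ⟨K, _, _, _, hK⟩ := Cfsg.Agent.H02.quad_package V _ hV hDV hf a' b' hgen ha hb
  obtain ⟨g, r, hr, hrp, hgr⟩ := Cfsg.Agent.H02.exists_prime_order_of_not_isPGroup hnp
  have hg1 : g ≠ 1 := by
    rintro rfl
    rw [orderOf_one] at hgr
    exact hr.one_lt.ne hgr
  obtain ⟨φ, hφ⟩ := hK g hg1 (by rw [hgr]; exact Cfsg.Agent.H02.coprime_of_prime_ne hr hp.out hrp)
  have hSp : ∀ x ∈ ({a', b'} : Set (Subgroup.closure ({a, b} : Set G))), x ^ p = 1 := by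
    intro x hx
    simp only [Set.mem_insert_iff, Set.mem_singleton_iff] at hx
    rcases hx with rfl | rfl
    · apply Subtype.ext
      exact Cfsg.Agent.H02.pow_p_of_quad V _ hV hDV hf a a'.2 ha
    · apply Subtype.ext
      exact Cfsg.Agent.H02.pow_p_of_quad V _ hV hDV hf b b'.2 hb
  have hnpr : ¬ IsPGroup p φ.range := by
    intro hrange
    obtain ⟨n, hn⟩ := hrange ⟨φ g, g, rfl⟩
    have h1 : (φ g) ^ (p ^ n) = 1 := congrArg Subtype.val hn
    have h2 : (φ g) ^ r = 1 := by
      rw [← map_pow, ← hgr, pow_orderOf_eq_one, map_one]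
    have h3 : (φ g) ^ (Nat.gcd r (p ^ n)) = 1 := pow_gcd_eq_one.mpr ⟨h2, h1⟩
    have h4 : Nat.Coprime r (p ^ n) :=
      Nat.Coprime.pow_right n (Cfsg.Agent.H02.coprime_of_prime_ne hr hp.out hrp)
    rw [h4.gcd_eq_one, pow_one] at h3
    exact hφ h3
  obtain ⟨K₀, hK₀, ⟨e⟩⟩ := exists_sl2_in_range hp2 φ _ hgen hSp hnpr
  exact section_of_hom _ φ K₀ hK₀ e

end Cfsg.Agent.H26.QuadSL
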