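import Mathlib
import Cfsg.Agent.Lib.H14.ZJMap
import Cfsg.Agent.Lib.H14.FusionZJ

/-! Bridges between the Prelude's stability vocabulary and the `NormalStable` interface of the
ZJ-theorem; characteristic subgroups from normal ones. -/

set_option autoImplicit false
set_option linter.style.haveILetI false

namespace Cfsg.Agent.H26

open Cfsg Cfsg.Agent.H14 ZJFam

section Bridge

variable {G : Type*} [Group G] [Finite G] {p : ℕ} [Fact p.Prime]

/-- The action form of stability gives the interface of the ZJ-theorem. -/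
theorem normalStable_of_stableOn
    (hst : ∀ (B : Subgroup G) [B.Normal], IsPGroup p B → IsPStableOn p B) (P : Subgroup G) :
    NormalStable p P := by
  intro B hB hBn
  haveI := hBn
  haveI : (Subgroup.centralizer (B : Set G)).Normal := Subgroup.normal_centralizer
  set C := Subgroup.centralizer (B : Set G) with hC
  let π := QuotientGroup.mk' C
  have hπs : Function.Surjective π := QuotientGroup.mk'_surjective C
  set O := Cfsg.pCore p (G ⧸ C) with hO
  have hOn : O.Normal := Cfsg.Agent.H01.pCore_normal p
  have hOp : IsPGroup p O := Cfsg.Agent.H01.pCore_isPGroup p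
  refine ⟨O.comap π, hOn.comap π, ?_, ?_, ?_⟩
  · intro c hc
    rw [Subgroup.mem_comap]
    have : π c = 1 := (QuotientGroup.eq_one_iff c).mpr hc
    rw [this]
    exact O.one_mem
  · obtain ⟨m, hm⟩ := IsPGroup.iff_card.mp hOp
    refine ⟨m, ?_⟩
    have h1 : C = (⊥ : Subgroup (G ⧸ C)).comap π := by
      ext x
      rw [Subgroup.mem_comap, Subgroup.mem_bot]
      exact (QuotientGroup.eq_one_iff x).symm
    have h2 : C.relIndex (O.comap π) = (⊥ : Subgroup (G ⧸ C)).relIndex O := by
      have h3 : C.relIndex (O.comap π) = ((⊥ : Subgroup (G ⧸ C)).comap π).relIndex (O.comap π) :=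
        congrArg (fun X : Subgroup G => X.relIndex (O.comap π)) h1
      rw [h3, Subgroup.relIndex_comap, Subgroup.map_comap_eq_self_of_surjective hπs]
    rw [h2, Subgroup.relIndex_bot_left, hm]
  · intro g _ hg
    exact @hst B hBn hB g hg

/-- Elements of `zz` of a subgroup of `G` under an automorphism. -/
theorem zz_characteristic {n : ℕ} (S : Sylow p G) (hn : ((elFam G n).zz (S : Subgroup G)).Normal) :
    ((elFam G n).zz (S : Subgroup G)).Characteristic := by
  rw [Subgroup.characteristic_iff_map_eq]
  intro φ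
  have hinj : ∀ x ∈ (S : Subgroup G), φ.toMonoidHom x = 1 → x = 1 := fun x _ h => by
    simpa using h
  let S' : Sylow p G := S.mapSurjective (f := φ.toMonoidHom) φ.surjective
  have hS' : (S' : Subgroup G) = (S : Subgroup G).map φ.toMonoidHom := Sylow.coe_mapSurjective _ S
  obtain ⟨g, hg⟩ := MulAction.exists_smul_eq G S S'
  have hS'' : (S' : Subgroup G) = (S : Subgroup G).map (MulAut.conj g).toMonoidHom := by
    rw [← hg]
    rfl
  rw [← zz_map n φ.toMonoidHom (S : Subgroup G) hinj, ← hS', hS'',
    zz_map n (MulAut.conj g).toMonoidHom (S : Subgroup G) (fun x _ h => by simpa using h)]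
  apply le_antisymm
  · rintro _ ⟨z, hz, rfl⟩
    exact hn.conj_mem z hz g
  · intro z hz
    refine ⟨g⁻¹ * z * g, ?_, by simp [MulAut.conj_apply]; group⟩
    have := hn.conj_mem z hz g⁻¹
    simpa using this

/-- `Ω₁(Z(J_e(S)))` as the subgroup `zz`. -/
theorem omegaCenterThompson_map_eq_zz (D : Subgroup G) :
    (omegaCenterThompson p ↥D).map D.subtype = (elFam G p).zz D := by
  rw [← omegaOne_centerThompsonOf_eq_zz]
  unfold omegaCenterThompson omegaOne
  rw [MonoidHom.map_closure]
  congr 1
  ext y
  constructor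
  · rintro ⟨x, ⟨⟨hx1, hx2⟩, hx3⟩, rfl⟩
    refine ⟨⟨⟨x, hx1, rfl⟩, ?_⟩, ?_⟩
    · change D.subtype x ∈ Subgroup.centralizer _
      rw [Subgroup.mem_centralizer_iff]
      rintro _ ⟨t, ht, rfl⟩
      have := (Subgroup.mem_centralizer_iff.mp hx2) t ht
      exact congrArg Subtype.val this
    · have := congrArg Subtype.val hx3
      simpa using this
  · rintro ⟨⟨⟨x, hx1, rfl⟩, hx2⟩, hx3⟩
    refine ⟨x, ⟨⟨hx1, ?_⟩, ?_⟩, rfl⟩
    · change x ∈ Subgroup.centralizer _
      rw [Subgroup.mem_centralizer_iff]
      intro t ht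
      have := (Subgroup.mem_centralizer_iff.mp hx2) t ⟨t, ht, rfl⟩
      exact Subtype.ext this
    · apply Subtype.ext
      simpa using hx3

end Bridge

end Cfsg.Agent.H26
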